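import Cfsg.Agent.Lib.InvChar.SporData.HeD.Rows
import Cfsg.Agent.Lib.InvChar.SporData.HeD.F0

set_option autoImplicit false
set_option maxRecDepth 100000

namespace CfsgLib.InvChar.Coset.HeD

theorem facts_ok : ∀ j < 2, cert.chkRun 128 (j * 128) (cert.just.get j) = true := by
  intro j hj
  rcases Nat.lt_or_ge j 2 with h0 | h0
  · obtain ⟨i, rfl⟩ : ∃ i, j = 0 + i := ⟨j - 0, by omega⟩
    exact chkBlocks_get (D := cert) 2 0 chk_facts0 i (by omega)
  omega

theorem covered : Covered cert table live fin where
  hg15 := by decide +kernel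
  hn := by decide +kernel
  facts := ⟨2, by decide +kernel, facts_ok⟩
  rows := by
    intro i hi
    have hi : i < 120 := hi
    rcases Nat.lt_or_ge i 120 with h0 | h0
    · exact chkRows_get 120 0 chk_rows0 i (by omega) (by omega)
    omega
  root := by decide +kernel

end CfsgLib.InvChar.Coset.HeD
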